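import Cfsg.Agent.KZ.Red.Cc
import Cfsg.Agent.H426.KB.C1
import Cfsg.Agent.H571.SylowNumber
import Cfsg.Agent.H158.PronQ
import Cfsg.Agent.H261.TI.PChar
import Cfsg.Agent.H611.CoverPrincipal

/-!
# KZ, cases A and B: general tools (helper8)

* `exists_fam` : many elements and small classes give many classes;
* `Orb`, `ncard_orb_le` : the length of an orbit on `Irr N`;
* `exists_nonconj`, `sum_cc_triv` : families of characters which are not conjugate;
* `fix_cent` : `C(P)` fixes the members of `N` which are fixed by `P`;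
* `res_three` : a normal subgroup of index three.
-/

set_option autoImplicit false

namespace Cfsg.Agent.KZ.RedB

open Cfsg Subgroup Cfsg.Agent.KZ.Red Cfsg.Agent.KZ.Tool Cfsg.Agent.Characters.Core

universe u v

theorem exists_fam {X : Type v} [Finite X] (r : X → X → Prop) (hs : ∀ x y, r x y → r y x) (s : Set X)
    (e : ℕ) (he : ∀ x ∈ s, (s ∩ {y | r x y}).ncard ≤ e) (k : ℕ) (h : k * e < s.ncard) :
    ∃ f : Fin (k + 1) → X, (∀ i, f i ∈ s) ∧ ∀ i j, r (f i) (f j) → i = j := by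
  classical
  have key : ∀ k : ℕ, (k - 1) * e < s.ncard → ∃ f : Fin k → X, (∀ i, f i ∈ s) ∧ ∀ i j, r (f i) (f j) → i = j := by
    intro k
    induction k with
    | zero => exact fun _ => ⟨Fin.elim0, fun i => i.elim0, fun i => i.elim0⟩
    | succ k ih =>
      intro h
      rw [Nat.add_sub_cancel] at h
      obtain ⟨f, h1, h2⟩ := ih ((Nat.mul_le_mul_right e (Nat.sub_le k 1)).trans_lt h)
      have h3 : (⋃ i, s ∩ {y | r (f i) y}).ncard < s.ncard := by
        refine ((Set.ncard_iUnion_le_of_fintype _).trans ?_).trans_lt h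
        simpa using Finset.sum_le_card_nsmul Finset.univ _ e fun i _ => he _ (h1 i)
      obtain ⟨x, hx, hx'⟩ := Set.exists_mem_notMem_of_ncard_lt_ncard h3
      have h4 : ∀ i, ¬ r (f i) x := fun i h5 => hx' (Set.mem_iUnion.2 ⟨i, hx, h5⟩)
      refine ⟨Fin.cons x f, fun i => Fin.cases hx h1 i, fun i j => ?_⟩
      refine Fin.cases (Fin.cases (fun _ => rfl) (fun j h5 => absurd (hs _ _ h5) (h4 j)) j)
        (fun i => Fin.cases (fun h5 => absurd h5 (h4 i)) (fun j h5 => congrArg _ (h2 i j h5)) j) i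
  exact key (k + 1) h

variable {M : Ideal AlgInt} {G : Type u} [Group G] [Finite G] {N : Subgroup G}

/-- the orbit of `θ` under `U` -/
def Orb (N : Subgroup G) [N.Normal] (U : Subgroup G) (θ : IrrCharacter ↥N) : Set (IrrCharacter ↥N) :=
  {θ' | ∃ g ∈ U, ∀ n : ↥N, (θ : ↥N → ℂ) (MulAut.conjNormal g n) = (θ' : ↥N → ℂ) n}

theorem ncard_orb_le [N.Normal] {U V : Subgroup G} {θ : IrrCharacter ↥N} (h : InvU N V θ) :
    (Orb N U θ).ncard ≤ V.relIndex U := by
  have h1 : ∀ x : Orb N U θ, ∃ g : U, ∀ n : ↥N, (θ : ↥N → ℂ) (MulAut.conjNormal (g : G) n) = (x.1 : ↥N → ℂ) n :=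
    fun x => let ⟨g, hg, e⟩ := x.2; ⟨⟨g, hg⟩, e⟩
  choose g hg using h1
  refine Nat.card_le_card_of_injective (β := U ⧸ V.subgroupOf U) (fun x => QuotientGroup.mk (g x)⁻¹) fun a b e => ?_
  have h2 := QuotientGroup.eq.1 e
  rw [inv_inv] at h2
  refine Subtype.ext (Subtype.ext (funext fun n => ?_))
  rw [← hg a, ← hg b, ← h _ h2 (MulAut.conjNormal (g b : G) n), ← MulAut.mul_apply, ← map_mul]
  simp

/-- many characters with short orbits -/
theorem exists_nonconj [N.Normal] (s : Set (IrrCharacter ↥N)) {U V : Subgroup G} (hV : ∀ θ ∈ s, InvU N V θ)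
    (hU : ∀ θ ∈ s, ∀ θ' ∈ s, GConj N θ θ' → θ' ∈ Orb N U θ) (k : ℕ) (h : k * V.relIndex U < s.ncard) :
    ∃ f : Fin (k + 1) → IrrCharacter ↥N, (∀ i, f i ∈ s) ∧ ∀ i j, GConj N (f i) (f j) → i = j := by
  have : Finite (IrrCharacter ↥N) := finite_irr
  exact exists_fam _ (fun _ _ => Red.GConj.symm) s _ (fun x hx =>
    (Set.ncard_le_ncard fun y hy => hU x hx y hy.1 hy.2).trans (ncard_orb_le (hV x hx))) k h

theorem exists_nonconj_top [N.Normal] (s : Set (IrrCharacter ↥N)) {V : Subgroup G} (hV : ∀ θ ∈ s, InvU N V θ)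
    (k : ℕ) (h : k * V.index < s.ncard) :
    ∃ f : Fin (k + 1) → IrrCharacter ↥N, (∀ i, f i ∈ s) ∧ ∀ i j, GConj N (f i) (f j) → i = j :=
  exists_nonconj s (U := ⊤) hV (fun _ _ _ _ ⟨g, hg⟩ => ⟨g, mem_top g, hg⟩) k (by rwa [relIndex_top_right])

theorem fam_option [N.Normal] {ι : Type v} (θ : ι → IrrCharacter ↥N) (h : ∀ i j, GConj N (θ i) (θ j) → i = j)
    (h1 : ∀ i, θ i ≠ triv ↥N) (i j : Option ι) (hij : GConj N (i.elim (triv ↥N) θ) (j.elim (triv ↥N) θ)) : i = j := by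
  rcases i with _ | i <;> rcases j with _ | j
  · rfl
  · exact absurd hij.eq_triv (h1 j)
  · exact absurd hij.symm.eq_triv (h1 i)
  · exact congrArg _ (h i j hij)

theorem sum_cc_triv [N.Normal] {k : ℕ} (θ : Fin k → IrrCharacter ↥N) (h : ∀ i j, GConj N (θ i) (θ j) → i = j)
    (h1 : ∀ i, θ i ≠ triv ↥N) {c : ℕ} (hc : ∀ i, c ≤ cc M N (θ i)) : cc M N (triv ↥N) + k * c ≤ k0 M G := by
  have h2 := sum_cc_le (M := M) _ (fam_option θ h h1)
  rw [Fintype.sum_option] at h2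
  refine le_trans (Nat.add_le_add_left ?_ _) h2
  have h3 := Finset.card_nsmul_le_sum Finset.univ _ c fun i _ => hc i
  rwa [Finset.card_univ, Fintype.card_fin] at h3

theorem invU_self [N.Normal] (θ : IrrCharacter ↥N) : InvU N N θ :=
  let ⟨_, hT, h⟩ := exists_inertia θ
  fun g hg => (hT g).1 (h hg)

theorem invU_sup [N.Normal] {U V : Subgroup G} {θ : IrrCharacter ↥N} (h : InvU N U θ) (h' : InvU N V θ) :
    InvU N (U ⊔ V) θ :=
  let ⟨T, hT, _⟩ := exists_inertia θ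
  fun g hg => (hT g).1 ((sup_le (fun x hx => (hT x).2 (h x hx)) (fun x hx => (hT x).2 (h' x hx)) : U ⊔ V ≤ T) hg)

theorem fix_reg [N.Normal] (hM : IsPModular 3 M) (P : Sylow 3 G) {θ : IrrCharacter ↥N} (hθ : Mem M θ) {b : G}
    (hb : b ∈ centralizer ((P : Subgroup G) : Set G)) (h3 : ¬ 3 ∣ orderOf b) :
    Fixes (MulAut.conjNormal b : MulAut ↥N) θ := by
  have : Fact (Nat.Prime 3) := ⟨Nat.prime_three⟩
  have hW : N ≤ N ⊔ zpowers b := le_sup_left
  obtain ⟨Q, hQ⟩ := H571.SylowNumber.exists_sylow_inf P N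
  let e := subgroupOfEquivOfLe hW
  intro n
  refine H426.KB.fixed_of_centralizer (N.subgroupOf (N ⊔ zpowers b)) hM (fun h => h3 (h.trans ?_))
    (Q.comapOfInjective e.toMonoidHom e.injective (by rw [MonoidHom.range_eq_top.2 e.surjective]; exact le_top))
    (sub hW θ) (mem_comp hM _ e.surjective hθ).1 ⟨b, mem_sup_right (mem_zpowers b)⟩ ?_ ⟨⟨n, hW n.2⟩, n.2⟩
  · change N.relIndex _ ∣ _
    rw [sup_comm, relIndex_sup_right, ← Nat.card_zpowers]
    exact relIndex_dvd_card _ _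
  · rintro _ ⟨y, hy, rfl⟩
    have h1 : e y ∈ (Q : Subgroup ↥N) := hy
    rw [hQ] at h1
    exact Subtype.ext (hb _ h1)

/-- `C(P)` fixes the members fixed by `P` -/
theorem fix_cent [N.Normal] (hM : IsPModular 3 M) (P : Sylow 3 G) {θ : IrrCharacter ↥N} (hθ : Mem M θ)
    (hP : InvU N (P : Subgroup G) θ) : InvU N (centralizer ((P : Subgroup G) : Set G)) θ := by
  have : Fact (Nat.Prime 3) := ⟨Nat.prime_three⟩
  obtain ⟨T, hT, -⟩ := exists_inertia θ
  intro a ha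
  obtain ⟨k, m, hm, e⟩ := Nat.exists_eq_pow_mul_and_not_dvd (orderOf_pos a).ne' 3 (by decide)
  refine (hT a).1 (H158.PronQ.mem_of_pow_coprime T (a := 3 ^ k) (b := m)
    (Nat.Coprime.pow_left k ((Nat.Prime.coprime_iff_not_dvd Nat.prime_three).2 hm)) ((hT _).2 ?_) ((hT _).2 (hP _ ?_)))
  · refine fix_reg hM P hθ (pow_mem ha _) fun h => hm (h.trans (orderOf_dvd_of_pow_eq_one ?_))
    rw [← pow_mul, ← e, pow_orderOf_eq_one]
  · obtain ⟨j, -, hj⟩ := (Nat.dvd_prime_pow Nat.prime_three).1 (orderOf_dvd_of_pow_eq_one (x := a ^ m) (n := 3 ^ k)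
      (by rw [← pow_mul, mul_comm, ← e, pow_orderOf_eq_one]))
    have h1 : IsPGroup 3 (zpowers (a ^ m)) := IsPGroup.of_card (by rw [Nat.card_zpowers, hj])
    have h2 : a ^ m ∈ zpowers (a ^ m) ⊓ normalizer ((P : Subgroup G) : Set G) :=
      ⟨mem_zpowers _, centralizer_le_normalizer _ (pow_mem ha _)⟩
    exact ((h1.inf_normalizer_sylow P).le h2).2

/-- a normal subgroup of index three -/
theorem res_three [hN : N.Normal] (hM : IsPModular 3 M) (hi : N.index = 3) :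
    k0 M G ≤ 3 * Nat.card {θ : IrrCharacter ↥N // Mem M θ ∧ InvU N ⊤ θ} := by
  classical
  have : Fact (Nat.Prime 3) := ⟨Nat.prime_three⟩
  have : Finite (IrrCharacter ↥N) := finite_irr
  have : Finite (IrrCharacter G) := finite_irr
  have := Fintype.ofFinite G
  let _ := Fintype.ofFinite ↥N
  have := Fintype.ofFinite {θ : IrrCharacter ↥N // Mem M θ ∧ InvU N ⊤ θ}
  have h1 : ∀ χ : {χ : IrrCharacter G // Mem M χ}, ∃ θ : {θ : IrrCharacter ↥N // Mem M θ ∧ InvU N ⊤ θ},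
      Over N χ.1 θ.1 := by
    intro χ
    obtain ⟨θ, h1, h2, h3⟩ := H672.exists_under_not_dvd N.subtype χ.1.2 χ.2.2
    refine ⟨⟨⟨θ, h1⟩, ⟨H611.CoverPrincipal.mem_principalBlock_of_over 3 hM N χ.1 ⟨θ, h1⟩ h2 χ.2.1, h3⟩, ?_⟩, h2⟩
    rcases H261.TI.prime_cases N Nat.prime_three hi h1 with ⟨h4, -⟩ | ⟨-, -, h4, h5⟩
    · exact fun g _ => H261.TI.mem_stab.1 (h4.ge (mem_top g))
    · refine absurd ⟨charDegree θ, H672.charDegree_of_eq ?_⟩ χ.2.2
      rw [h5 _ χ.1.2 h2, h4, Nat.cast_mul, H672.coe_charDegree h1]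
  have h2 : ∀ θ : {θ : IrrCharacter ↥N // Mem M θ ∧ InvU N ⊤ θ}, cc M N θ.1 ≤ 3 := by
    intro θ
    obtain ⟨e, S, he, hS, -, -, h3, h4, -⟩ := OddOrderCharacters.InertiaAbelian.exists_decomp N θ.1.1 θ.1.2
      (fun t n => θ.2.2 t (mem_top t) n) (H261.TI.comm_mem N Nat.prime_three hi)
    have h5 : ∀ χ : IrrCharacter G, Over N χ θ.1 → (χ : G → ℂ) ∈ S := fun χ h => by
      by_contra h6
      have h7 : classInner (indFun N θ.1.1) (χ : G → ℂ) = 0 := by
        rw [h4, classInner_smul_left, classInner_sum_left,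
          Finset.sum_eq_zero fun ψ hψ => classInner_irr_ne (hS ψ hψ) χ.2 fun h8 => h6 (h8 ▸ hψ), mul_zero]
      rw [CharactersDeep.NormalInd.classInner_indFun N _ _ (isIrr_isClassFunction χ.2), ← classInner_conj_symm,
        map_eq_zero] at h7
      exact h h7
    have h6 : cc M N θ.1 ≤ Nat.card S := Nat.card_le_card_of_injective (fun χ => ⟨χ.1.1, h5 _ χ.2.2⟩)
      fun a b e => Subtype.ext (Subtype.ext (congrArg (fun x : S => x.1) e))
    rw [Nat.card_eq_finsetCard] at h6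
    rw [← hi, ← h3]
    exact h6.trans (Nat.le_mul_of_pos_left _ (pow_pos he 2))
  choose f hf using h1
  have h3 : k0 M G ≤ ∑ θ : {θ : IrrCharacter ↥N // Mem M θ ∧ InvU N ⊤ θ}, cc M N θ.1 := by
    unfold cc
    rw [k0_eq, ← Nat.card_sigma]
    exact Nat.card_le_card_of_injective (fun χ => ⟨f χ, χ.1, χ.2, hf χ⟩) fun a b e =>
      Subtype.ext (congrArg (fun x => x.2.1) e)
  refine h3.trans ?_
  rw [Nat.card_eq_fintype_card, mul_comm]
  exact Finset.sum_le_card_nsmul Finset.univ _ 3 fun θ _ => h2 θ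

end Cfsg.Agent.KZ.RedB
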