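import Cfsg.Agent.KZ.RedB.B2

/-!
# KZ: case A of the reduction (helper8)
-/

set_option autoImplicit false

namespace Cfsg.Agent.KZ.RedB

open Cfsg Subgroup Cfsg.Agent.KZ.Red Cfsg.Agent.KZ.Tool Cfsg.Agent.Characters.Core Cfsg.Agent.Blocks.Local

variable {M : Ideal AlgInt} {G : Type} [Group G] [Finite G] {P : Sylow 3 G} {N : Subgroup G} [hN : N.Normal]
  {S : Type} [Group S] [Finite S] {m : ℕ}

theorem exists_fun {α : Type} (m : ℕ) (s : Sym α m) : ∃ t : Fin m → α, Finset.univ.val.map t = s.1 := by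
  obtain ⟨⟨l⟩, rfl⟩ := s
  exact ⟨l.get, (Fin.univ_val_map _).trans (congrArg _ (List.ofFn_get l))⟩

omit [Finite S] in
theorem tw_inv {σ : MulAut S} {α β : IrrCharacter S} (h : tw σ α = β) : tw σ⁻¹ β = α := by
  rw [← h, ← tw_mul, mul_inv_cancel, tw_one]

/-- the types -/
theorem exists_types (hM : IsPModular 3 M) (C : Co N S m) (hT : Two M S) :
    ∃ θ : Sym (Fin 3) m → IrrCharacter ↥N, (∀ s, Mem M (θ s)) ∧ (∀ s t, GConj N (θ s) (θ t) → s = t) ∧
      θ (Sym.replicate m 0) = triv ↥N := by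
  obtain ⟨α, β, h1, h2, h3, h4, h5⟩ := hT
  rw [nontriv_iff] at h3 h4
  let T : Fin 3 → IrrCharacter S := Fin.cons (triv S) (Fin.cons α fun _ => β)
  have h6 : ∀ a, Mem M (T a) := Fin.forall_fin_succ.2 ⟨mem_triv hM, Fin.forall_fin_two.2 ⟨h1, h2⟩⟩
  have h7 : ∀ σ a b, tw σ (T a) = T b → a = b := fun σ => Fin.forall_fin_succ.2
    ⟨Fin.forall_fin_succ.2 ⟨fun _ => rfl, Fin.forall_fin_two.2 ⟨fun e => absurd e.symm h3, fun e => absurd e.symm h4⟩⟩,
      Fin.forall_fin_two.2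
        ⟨Fin.forall_fin_succ.2 ⟨fun e => absurd (tw_eq_triv.1 e) h3, Fin.forall_fin_two.2
          ⟨fun _ => rfl, fun e => absurd (tw_eq_iff.1 e) (h5 _)⟩⟩,
        Fin.forall_fin_succ.2 ⟨fun e => absurd (tw_eq_triv.1 e) h4, Fin.forall_fin_two.2
          ⟨fun e => absurd (tw_eq_iff.1 (tw_inv e)) (h5 _), fun _ => rfl⟩⟩⟩⟩
  choose t ht using exists_fun (α := Fin 3) m
  refine ⟨fun s => C.pc (T ∘ t s), fun s => (C.mem_pc_iff hM).2 fun i => h6 _, fun s s' h => Subtype.ext ?_, ?_⟩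
  · obtain ⟨g, hg⟩ := C.gconj_iff.1 h
    rw [← ht, ← ht, ← funext fun i => h7 _ _ _ (hg i)]
    exact (congrArg _ (Multiset.map_univ_val_equiv (C.π g)).symm).trans (Multiset.map_map _ _ _)
  · rw [← C.pc_triv]
    refine congrArg _ (funext fun i => congrArg T (a₂ := 0) ?_)
    exact Multiset.eq_of_mem_replicate (n := m) (show t _ i ∈ (Sym.replicate m (0 : Fin 3)).1 from
      ht _ ▸ Multiset.mem_map_of_mem _ (Finset.mem_univ i))

/-- an automorphism of order five on six members -/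
theorem fix_five (hM : IsPModular 3 M) (hT : Two M S) (hk : k0 M S ≤ 6) {σ : MulAut S} {γ : IrrCharacter S}
    (hγ : Mem M γ) (h : tw (σ ^ 5) γ = γ) : tw σ γ = γ := by
  have : Finite (IrrCharacter S) := finite_irr
  obtain ⟨α, β, h1, h2, h3, h4, h5⟩ := hT
  rw [nontriv_iff] at h3 h4
  by_cases h0 : γ = triv S
  · rw [h0, tw_triv]
  obtain ⟨δ, h6, h7, h8⟩ : ∃ δ, Mem M δ ∧ δ ≠ triv S ∧ ∀ τ, tw τ γ ≠ δ := by
    by_cases h6 : ∃ τ, tw τ γ = α
    · obtain ⟨τ, e⟩ := h6
      exact ⟨β, h2, h4, fun τ' e' => h5 (τ⁻¹ * τ') (tw_eq_iff.1 (by rw [tw_mul, tw_inv e, e']))⟩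
    · exact ⟨α, h1, h3, fun τ e => h6 ⟨τ, e⟩⟩
  have h9 : ∀ k, (tw σ)^[k] γ = tw (σ ^ k) γ := fun k => by
    induction k with
    | zero => rfl
    | succ k ih => rw [Function.iterate_succ_apply', ih, pow_succ, tw_mul]
  have h10 : Function.IsPeriodicPt (tw σ) 5 γ := (h9 5).trans h
  rcases (Nat.dvd_prime Nat.prime_five).1 h10.minimalPeriod_dvd with h11 | h11
  · exact Function.minimalPeriod_eq_one_iff_isFixedPt.1 h11
  · have h12 := Function.iterate_injOn_Iio_minimalPeriod (f := tw σ) (x := γ)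
    rw [h11] at h12
    have h13 := Set.ncard_le_ncard_of_injOn (t := {χ | Mem M χ} \ {triv S, δ}) _ (fun k _ => by
      rw [h9]
      exact ⟨mem_tw hM _ hγ, fun e => e.elim (fun e => h0 (tw_eq_triv.1 e)) (h8 _)⟩) h12
    rw [Set.ncard_sdiff (Set.pair_subset (s := {χ | Mem M χ}) (mem_triv hM) h6), Set.ncard_pair h7.symm,
      Set.ncard_Iio_nat] at h13
    have h14 : {χ : IrrCharacter S | Mem M χ}.ncard ≤ 6 := hk
    omega

omit hN in
theorem classes_le_cc (hM : IsPModular 3 M) (P : Sylow 3 G) {V : Subgroup G} [V.Normal] (hV : N ≤ V)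
    (hC : centralizer ((P : Subgroup G) : Set G) ≤ V) (h3 : ¬ 3 ∣ V.index) :
    Nat.card (ConjClasses (G ⧸ V)) ≤ cc M N (triv ↥N) := by
  have : Finite (IrrCharacter G) := finite_irr
  have := isPrime_of_isPModular hM
  have hf := QuotientGroup.mk'_surjective V
  rw [← card_irr]
  refine Nat.card_le_card_of_injective (fun χ => ⟨⟨χ.1 ∘ QuotientGroup.mk' V, isIrr_comp _ hf χ.2⟩,
    (mem_iff hM P _).2 ⟨fun h => h3 (h.trans (S0953.charDegree_dvd_card χ)), fun x hx _ => ?_⟩,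
    over_of_res (isIrr_apply_one_ne_zero χ.2) fun n => ?_⟩) fun a b e => ?_
  · change MemLocalIdeal M (χ.1 x - χ.1 1)
    rw [(QuotientGroup.eq_one_iff _).2 (hC hx), sub_self]
    exact memLocalIdeal_zero
  · exact (congrArg χ.1 ((QuotientGroup.eq_one_iff _).2 (hV n.2))).trans (mul_one _).symm
  · exact Subtype.ext (hf.injective_comp_right (congrArg (fun x => (x.1 : G → ℂ)) e))

/-- two factors -/
theorem of_two (hS : SmallK) (h : Min M G P N) (h3 : ¬ 3 ∣ N.index) (hP : (P : Subgroup G) ≤ N) [Nontrivial S]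
    (C : Co N S 2) (hT : Two M S) : False := by
  have f3 : Fact (Nat.Prime 3) := ⟨Nat.prime_three⟩
  have : Finite (IrrCharacter ↥N) := finite_irr
  have hM := h.mod
  have hk : 6 ≤ k0 M S := six_le_k0 hM (by
    obtain ⟨k, hk⟩ := nab_pow P
    have h1 := (nab_dvd P).trans (card_dvd_of_le hP)
    obtain ⟨t, ht⟩ := h.three_factor C
    have h2 := h.big
    rw [hk] at h1 h2
    have h4 : 3 ≤ k := (Nat.pow_le_pow_iff_right (by decide)).1 (show 3 ^ 3 ≤ 3 ^ k from h2)
    have h5 := (pow_dvd_pow 3 h4).trans h1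
    rw [C.card_eq, ht, mul_pow, pow_succ 3 2] at h5
    exact ht ▸ Nat.mul_dvd_mul_left 3 (Nat.prime_three.dvd_of_dvd_pow (Nat.dvd_of_mul_dvd_mul_left (by decide) h5)))
  have h1 : k0 M S ^ 2 ≤ ({θ : IrrCharacter ↥N | Mem M θ} \ {triv ↥N}).ncard + 1 := by
    rw [Set.ncard_sdiff_singleton_add_one (show triv ↥N ∈ {θ : IrrCharacter ↥N | Mem M θ} from mem_triv hM)]
    have h2 := Nat.card_le_card_of_injective (β := {θ : IrrCharacter ↥N | Mem M θ})
      (fun f : Fin 2 → {α : IrrCharacter S // Mem M α} => ⟨C.pc fun i => (f i).1, (C.mem_pc_iff hM).2 fun i => (f i).2⟩)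
      fun a b e => funext fun i => Subtype.ext (congrFun (C.pc_injective (congrArg Subtype.val e)) i)
    rwa [Nat.card_fun, Nat.card_eq_fintype_card (α := Fin 2), Fintype.card_fin] at h2
  have key : ∀ (W : Subgroup G) (k : ℕ), (∀ θ, Mem M θ → InvU N W θ) → k * W.index + 1 < k0 M S ^ 2 →
      cc M N (triv ↥N) + (k + 1) * 1 ≤ 9 := by
    intro W k hW hk
    obtain ⟨f, h4, h5⟩ := exists_nonconj_top ({θ : IrrCharacter ↥N | Mem M θ} \ {triv ↥N}) (fun θ hθ => hW θ hθ.1) k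
      (by omega)
    exact (sum_cc_triv f h5 (fun i => (h4 i).2) fun i => one_le_cc hM P hP (h4 i).1).trans h.le9
  obtain ⟨V, hVe⟩ : ∃ V, V = ((P : Subgroup G) ⊔ centralizer ((P : Subgroup G) : Set G)) ⊔ N := ⟨_, rfl⟩
  have hNV : N ≤ V := le_sup_right.trans hVe.ge
  have hV : V.Normal := by
    rw [← normalizer_eq_top_iff, eq_top_iff, ← Sylow.normalizer_sup_eq_top' P hP]
    exact sup_le (hVe ▸ R2.H27S.Cube.normalizer_le.trans normalizer_le_normalizer_sup_normal) (hNV.trans le_normalizer)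
  have hI : ∀ θ, Mem M θ → InvU N V θ := fun θ hθ =>
    have h2 : InvU N (P : Subgroup G) θ := fun g hg => invU_self θ g (hP hg)
    hVe ▸ invU_sup (invU_sup h2 (fix_cent hM P hθ h2)) (invU_self θ)
  obtain ⟨T, h4, h5, h6⟩ := exists_stab C 0
  have h7 : V ≤ T := hVe.le.trans (sup_le (sup_le (hP.trans h5)
    fun x hx => (h4 x).2 ((C.cent (h.three_factor C) P 0).choose_spec.2 x hx).1) h5)
  have h8 : ¬ 3 ∣ V.index := fun h8 => h3 (h8.trans (index_dvd_of_le hNV))
  have h9 := classes_le_cc hM P hNV ((le_sup_right.trans le_sup_left).trans hVe.ge) h8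
  have h10 := relIndex_mul_index h7
  rw [h6] at h10
  obtain ⟨k1, k2, k3, k4⟩ := hS (G ⧸ V) h8
  have h11 : 0 < Nat.card (ConjClasses (G ⧸ V)) := Nat.card_pos
  change _ → V.index = 1 at k2
  change _ → V.index = 2 at k3
  change _ → V.index = 4 ∨ V.index = 10 at k4
  have h12 : 6 ^ 2 ≤ k0 M S ^ 2 := Nat.pow_le_pow_left hk 2
  have h13 := key V 8 hI
  have h14 := key V 5 hI
  have h15 : cc M N (triv ↥N) + 5 ≤ 9 := by
    obtain ⟨θ, h15, h16, h17⟩ := exists_types hM C hT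
    have h18 := sum_cc_le (M := M) θ h16
    rw [← Finset.add_sum_erase _ _ (Finset.mem_univ (Sym.replicate 2 0)), h17] at h18
    have h19 := Finset.card_nsmul_le_sum (Finset.univ.erase (Sym.replicate 2 0)) _ 1 fun s _ => one_le_cc hM P hP (h15 s)
    rw [Finset.card_erase_of_mem (Finset.mem_univ _), Finset.card_univ, Sym.card_sym_eq_choose, Fintype.card_fin] at h19
    exact (Nat.add_le_add_left h19 _).trans (h18.trans h.le9)
  have h16 : V.index = 10 := by omega
  by_cases h17 : k0 M S ≤ 6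
  · refine absurd (key T 8 (fun θ hθ g hg => ?_) (by omega)) (by omega)
    obtain ⟨f, rfl⟩ := C.pc_surjective θ
    have h18 : ∀ i, C.π g i = i := Fin.forall_fin_two.2 ⟨(h4 g).1 hg, by_contra fun h18 =>
      absurd ((C.π g).injective ((Fin.eq_zero_or_eq_succ _).elim (fun e => e.trans ((h4 g).1 hg).symm)
        fun ⟨j, e⟩ => absurd (e.trans (congrArg _ (Subsingleton.elim j 0))) h18)) (by decide)⟩
    have h19 : g ^ 5 ∈ V := by
      have h19 := (V.subgroupOf T).pow_index_mem ⟨g, hg⟩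
      rwa [show (V.subgroupOf T).index = 5 from by change V.relIndex T = 5; omega] at h19
    refine C.fixes_iff.2 fun i => ?_
    have h20 := (C.mem_pc_iff hM).1 hθ i
    rw [h18]
    refine fix_five hM hT h17 h20 ?_
    rw [← C.a_pow (h18 i)]
    exact C.fixes_iff.1 (hI _ ((C.mem_pc_iff hM).2 fun _ => h20) _ h19) i
  · have h18 := three_dvd_k0 hM (h.three_factor C)
    have h19 : 9 ^ 2 ≤ k0 M S ^ 2 := Nat.pow_le_pow_left (by omega) 2
    omega

/-- **case A** -/
theorem caseA : CaseA := by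
  intro hA hL hS M G _ _ P N hN h h3
  have f3 : Fact (Nat.Prime 3) := ⟨Nat.prime_three⟩
  have hM := h.mod
  have h9 := h.le9
  have hP : (P : Subgroup G) ≤ N := by
    obtain ⟨k, hk⟩ := P.2.exists_card_eq
    refine relIndex_eq_one.1 (Nat.eq_one_of_dvd_coprimes (Nat.Coprime.pow_left k
      ((Nat.Prime.coprime_iff_not_dvd Nat.prime_three).2 h3)) (hk ▸ relIndex_dvd_card _ _) (relIndex_dvd_index_of_normal _ _))
  by_cases hab : IsMulCommutative ↥N
  · obtain rfl := le_antisymm hP (h.le_sylow hab)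
    have h1 := hL M hM G P hN hab (fun x => h.pow_three hab) (h.big.trans (Nat.le_of_dvd Nat.card_pos (nab_dvd P))) h.core
    omega
  · obtain ⟨S, _, _, m, hm, hsimple, hna, ⟨C⟩⟩ := exists_co N h.min hab
    have hT := hA.two M hM S hsimple hna (h.three_factor C) trivial
    obtain rfl | rfl | hm : m = 1 ∨ m = 2 ∨ 3 ≤ m := by omega
    · exact of_one hA h hab C (.inl h3)
    · exact of_two hS h h3 hP C hT
    · obtain ⟨θ, h1, h2, -⟩ := exists_types hM C hT
      have h4 := Finset.card_nsmul_le_sum Finset.univ _ 1 fun s _ => one_le_cc hM P hP (h1 s)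
      rw [Finset.card_univ, Sym.card_sym_eq_choose, Fintype.card_fin, show 3 + m - 1 = m + 2 by omega,
        Nat.choose_symm_add, smul_eq_mul, mul_one] at h4
      exact absurd ((Nat.choose_le_choose 2 (show 5 ≤ m + 2 by omega)).trans (h4.trans ((sum_cc_le θ h2).trans h9)))
        (by decide)

end Cfsg.Agent.KZ.RedB
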