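import Cfsg.Agent.KZ.RedB.E2
import Cfsg.Agent.KZ.Red.Nab
import Cfsg.Agent.H627.BR.Grp
import Cfsg.Agent.R2.H27S.Cube

/-!
# KZ, case B: four members of `N` fixed by `P` are too many (helper8)
-/

set_option autoImplicit false

namespace Cfsg.Agent.KZ.RedB

open Cfsg Subgroup Cfsg.Agent.KZ.Red Cfsg.Agent.KZ.Tool Cfsg.Agent.Characters.Core
open scoped Pointwise

universe u v

variable {M : Ideal AlgInt}

section

variable {G : Type u} [Group G] [Finite G] {N : Subgroup G} [hN : N.Normal]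

/-- the members of `N` fixed by `P` -/
def Th (M : Ideal AlgInt) (N : Subgroup G) [N.Normal] (P : Subgroup G) : Set (IrrCharacter ↥N) :=
  {θ | Mem M θ ∧ InvU N P θ}

theorem card_map_three [Fact (Nat.Prime 3)] (P : Sylow 3 G) (h3 : 3 ∣ N.index) (h9 : ¬ 9 ∣ N.index) :
    Nat.card (P.mapSurjective (QuotientGroup.mk'_surjective N) : Subgroup (G ⧸ N)) = 3 := by
  set R := P.mapSurjective (QuotientGroup.mk'_surjective N)
  obtain ⟨j, hj⟩ := R.2.exists_card_eq
  have h1 := R.dvd_card_of_dvd_card h3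
  have h2 : Nat.card (R : Subgroup (G ⧸ N)) ∣ N.index := card_subgroup_dvd_card _
  change Nat.card (R : Subgroup (G ⧸ N)) = _ at hj
  rw [hj] at h1 h2 ⊢
  rcases j with _ | _ | j
  · exact absurd h1 (by decide)
  · rfl
  · exact absurd (Dvd.dvd.trans ⟨3 ^ j, by ring⟩ h2) h9

theorem relIndex_three (P : Sylow 3 G) (h3 : 3 ∣ N.index) (h9 : ¬ 9 ∣ N.index) :
    N.relIndex (N ⊔ (P : Subgroup G)) = 3 := by
  have : Fact (Nat.Prime 3) := ⟨Nat.prime_three⟩
  refine Eq.trans ?_ (card_map_three P h3 h9)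
  rw [relIndex_sup_left, Sylow.coe_mapSurjective, ← relIndex_ker, QuotientGroup.ker_mk']

omit hN in
theorem map_normalizer (P : Sylow 3 G) {H : Type v} [Group H] (f : G →* H) (hf : Function.Surjective f) :
    (normalizer ((P : Subgroup G) : Set G)).map f = normalizer (((P : Subgroup G).map f : Subgroup H) : Set H) := by
  have : Fact (Nat.Prime 3) := ⟨Nat.prime_three⟩
  refine le_antisymm (le_normalizer_map f) fun h hh => ?_
  obtain ⟨g, rfl⟩ := hf h
  obtain ⟨k, hk, hg⟩ := H627.BR.frat P f.ker (g := g) (by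
    intro x hx
    have h1 := (mem_normalizer_iff.1 hh (f x)).1 (mem_map_of_mem f hx)
    rw [← map_inv, ← map_mul, ← map_mul] at h1
    rw [← comap_map_eq]
    exact h1)
  exact ⟨k⁻¹ * g, mem_normalizer_fintype hg, by
    rw [map_mul, map_inv, MonoidHom.mem_ker.1 hk, inv_one, one_mul]⟩

/-- fusion of the characters fixed by `P` -/
theorem orb_of_gconj (P : Sylow 3 G) {θ θ' : IrrCharacter ↥N} (h : InvU N (P : Subgroup G) θ)
    (h' : InvU N (P : Subgroup G) θ') (hc : GConj N θ θ') : θ' ∈ Orb N (normalizer ((P : Subgroup G) : Set G)) θ := by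
  have : Fact (Nat.Prime 3) := ⟨Nat.prime_three⟩
  obtain ⟨T, hT, -⟩ := exists_inertia θ
  obtain ⟨g, hg⟩ := hc
  have h1 : (P : Subgroup G) ≤ T := fun x hx => (hT x).2 (h x hx)
  have h2 : ((g • P : Sylow 3 G) : Subgroup G) ≤ T := by
    intro y hy
    rw [Sylow.coe_subgroup_smul, mem_smul_pointwise_iff_exists] at hy
    obtain ⟨x, hx, rfl⟩ := hy
    refine (hT _).2 fun n => ?_
    rw [MulAut.smul_def, MulAut.conj_apply, map_mul, map_mul, MulAut.mul_apply, MulAut.mul_apply, hg, h' x hx, ← hg,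
      map_inv, MulAut.apply_inv_self]
  obtain ⟨t, ht⟩ := MulAction.exists_smul_eq T ((g • P).subtype h2) (P.subtype h1)
  refine ⟨t * g, ?_, fun n => by rw [map_mul, MulAut.mul_apply, (hT t).1 t.2, hg]⟩
  rw [Sylow.smul_subtype] at ht
  have h3 := Sylow.subtype_injective ht
  rw [Subgroup.smul_def, ← mul_smul] at h3
  exact Sylow.smul_eq_iff_mem_normalizer.1 h3

/-- inflation -/
theorem card_cg_le (hM : IsPModular 3 M) (P : Sylow 3 G) {L : Subgroup (G ⧸ N)}
    (hL : (centralizer ((P : Subgroup G) : Set G)).map (QuotientGroup.mk' N) ≤ L) :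
    Nat.card {χ : IrrCharacter (G ⧸ N) // Cg M L χ} ≤ cc M N (triv ↥N) := by
  have : Finite (IrrCharacter G) := finite_irr
  have hf := QuotientGroup.mk'_surjective N
  refine Nat.card_le_card_of_injective (fun χ => ⟨⟨χ.1.1 ∘ QuotientGroup.mk' N, isIrr_comp _ hf χ.1.2⟩,
    (mem_iff hM P _).2 ⟨?_, fun x hx _ => χ.2.2 _ (hL (mem_map_of_mem _ hx))⟩,
    over_of_res (isIrr_apply_one_ne_zero χ.1.2) fun n => ?_⟩) fun a b e => ?_
  · exact χ.2.1
  · exact (congrArg χ.1.1 ((QuotientGroup.eq_one_iff _).2 n.2)).trans (mul_one _).symm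
  · exact Subtype.ext (Subtype.ext (hf.injective_comp_right (congrArg (fun x => (x.1 : G → ℂ)) e)))

theorem three_dvd_th (hM : IsPModular 3 M) (h3 : 3 ∣ Nat.card N) (P : Sylow 3 G) :
    3 ∣ (Th M N (P : Subgroup G)).ncard := by
  have h1 := three_dvd_fixed hM h3 ((P : Subgroup G).map (MulAut.conjNormal : G →* MulAut ↥N)) (P.2.map _)
  rw [Nat.card_congr (Equiv.subtypeEquivRight (q := fun θ => θ ∈ Th M N (P : Subgroup G)) fun θ =>
    and_congr_right fun _ => ⟨fun h g hg => h _ (mem_map_of_mem _ hg), fun h _ ⟨g, hg, e⟩ => e ▸ h g hg⟩)] at h1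
  exact h1

end

variable {G : Type} [Group G] [Finite G] {P : Sylow 3 G} {N : Subgroup G} [hN : N.Normal]

theorem of_four (hS : SmallK) (h : Min M G P N) (h3 : 3 ∣ N.index) (h9 : ¬ 9 ∣ N.index)
    (h4 : 4 ≤ (Th M N (P : Subgroup G)).ncard) : False := by
  have f3 : Fact (Nat.Prime 3) := ⟨Nat.prime_three⟩
  have : Finite (IrrCharacter ↥N) := finite_irr
  have hM := h.mod
  have hf := QuotientGroup.mk'_surjective N
  have hi := relIndex_three P h3 h9
  have hR := card_map_three P h3 h9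
  have hP : ¬ (P : Subgroup G) ≤ N := fun h1 => P.not_dvd_index (h3.trans (index_dvd_of_le h1))
  have hcyc : IsCyclic (↥(N ⊔ (P : Subgroup G)) ⧸ N.subgroupOf (N ⊔ (P : Subgroup G))) := isCyclic_of_prime_card hi
  have hcc : ∀ θ ∈ Th M N (P : Subgroup G), 3 ≤ cc M N θ := fun θ hθ => three_le_cc hM P hP hθ.1 (ext_cyclic hθ.2 hcyc)
  have ht : triv ↥N ∈ Th M N (P : Subgroup G) := ⟨mem_triv hM, fun _ _ _ => rfl⟩
  have h5 : 5 ≤ (Th M N (P : Subgroup G) \ {triv ↥N}).ncard := by
    have h6 := three_dvd_th hM h.three P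
    rw [Set.ncard_sdiff_singleton_of_mem ht]
    omega
  let L := ((P : Subgroup G) ⊔ centralizer ((P : Subgroup G) : Set G)).map (QuotientGroup.mk' N)
  have hc : IsCyclic (P.mapSurjective hf : Subgroup (G ⧸ N)) := isCyclic_of_prime_card hR
  obtain ⟨e3, e5⟩ := e1 hS hM (P.mapSurjective hf) hR (L := L) (map_mono le_sup_left)
    (by
      rw [show L = _ from Subgroup.map_sup _ _ _]
      refine sup_le (le_centralizer_iff_isMulCommutative.2 (inferInstanceAs
        (IsMulCommutative (P.mapSurjective hf : Subgroup (G ⧸ N))))) ?_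
      rintro _ ⟨x, hx, rfl⟩ _ ⟨y, hy, rfl⟩
      rw [← map_mul, ← map_mul, hx y hy])
    (by
      rw [Sylow.coe_mapSurjective, ← map_normalizer P _ hf]
      exact (map_mono R2.H27S.Cube.normalizer_le).trans (le_normalizer_map _))
  rw [Sylow.coe_mapSurjective, ← map_normalizer P _ hf, ← relIndex_comap] at e3 e5
  have h6 := card_cg_le hM P (L := L) (map_mono le_sup_right)
  have h7 : ∀ k : ℕ, k * (L.comap (QuotientGroup.mk' N)).relIndex (normalizer ((P : Subgroup G) : Set G)) < 5 →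
      cc M N (triv ↥N) + (k + 1) * 3 ≤ 9 := by
    intro k hk
    obtain ⟨f, h8, h10⟩ := exists_nonconj (Th M N (P : Subgroup G) \ {triv ↥N}) (V := L.comap (QuotientGroup.mk' N))
      (fun θ hθ => by
        rw [comap_map_eq, QuotientGroup.ker_mk']
        exact invU_sup (invU_sup hθ.1.2 (fix_cent hM P hθ.1.1 hθ.1.2)) (invU_self θ))
      (fun θ hθ θ' hθ' => orb_of_gconj P hθ.1.2 hθ'.1.2) k (hk.trans_le h5)
    exact (sum_cc_triv f h10 (fun i => (h8 i).2) fun i => hcc _ (h8 i).1).trans h.le9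
  have h8 := hcc _ ht
  have h10 := h7 0
  have h11 := h7 1
  have h12 := h7 2
  omega

end Cfsg.Agent.KZ.RedB
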