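import Cfsg.Agent.KZ.RedB.B1
import Cfsg.Agent.H566.PairFrob

/-!
# KZ: case B of the reduction (helper8)
-/

set_option autoImplicit false

namespace Cfsg.Agent.KZ.RedB

open Cfsg Subgroup Cfsg.Agent.KZ.Red Cfsg.Agent.KZ.Tool Cfsg.Agent.Characters.Core
open scoped commutatorElement

variable {M : Ideal AlgInt} {G : Type} [Group G] [Finite G] {P : Sylow 3 G} {N : Subgroup G} [hN : N.Normal]
  {S : Type} [Group S] {m : ℕ}

omit [Finite G] in
/-- the stabilizer of a factor -/
theorem exists_stab [Nontrivial S] (C : Co N S m) (o : Fin m) :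
    ∃ T : Subgroup G, (∀ g, g ∈ T ↔ C.π g o = o) ∧ N ≤ T ∧ T.index = m := by
  let _ := MulAction.compHom (Fin m) C.π
  have : MulAction.IsPretransitive G (Fin m) := ⟨C.trans⟩
  refine ⟨MulAction.stabilizer G o, fun _ => Iff.rfl, fun n hn => ?_, ?_⟩
  · exact (congrArg (fun σ : Equiv.Perm (Fin m) => σ o) (C.π_mem ⟨n, hn⟩) :)
  · rw [MulAction.index_stabilizer_of_transitive, Nat.card_eq_fintype_card, Fintype.card_fin]

theorem card_cent_dvd (h : Min M G P N) (hab : ¬ IsMulCommutative ↥N) :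
    Nat.card (centralizer (N : Set G)) ∣ N.index := by
  rcases h.min (N ⊓ centralizer (N : Set G)) inferInstance inf_le_left with h1 | h1
  · rw [← relIndex_bot_left, ← h1, inf_relIndex_right]
    exact relIndex_dvd_index_of_normal _ _
  · exact absurd (le_centralizer_iff_isMulCommutative.1 (h1.ge.trans inf_le_right)) hab

/-- one factor -/
theorem of_one (hA : All) (h : Min M G P N) (hab : ¬ IsMulCommutative ↥N) [IsSimpleGroup S] (C : Co N S 1)
    (hi : ¬ 3 ∣ N.index ∨ N.index = 3) : False := by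
  have f3 : Fact (Nat.Prime 3) := ⟨Nat.prime_three⟩
  have h1 := card_cent_dvd h hab
  have h2 : centralizer (N : Set G) = ⊥ := by
    rcases hi with hi | hi
    · exact h.core _ inferInstance fun h3 => hi (h3.trans h1)
    · rw [hi] at h1
      have : IsCyclic (centralizer (N : Set G)) := isCyclic_of_card_dvd_prime h1
      exact h.ab.resolve_left hab _ inferInstance inferInstance
  have h3 := hA.lo M h.mod G N ⟨hN, (C.e.trans (MulEquiv.funUnique _ _)).isSimpleGroup, hab, h2, h.three⟩ trivial hi P h.big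
  have h4 := h.le9
  omega

theorem not_abelian (h : Min M G P N) (hi : N.index = 3) (hH : N ⊔ (P : Subgroup G) = ⊤) :
    ¬ IsMulCommutative ↥N := by
  have f3 : Fact (Nat.Prime 3) := ⟨Nat.prime_three⟩
  intro hab
  rw [sup_eq_right.2 (h.le_sylow hab)] at hH
  have h1 : IsPGroup 3 G := (hH ▸ P.2 : IsPGroup 3 (⊤ : Subgroup G)).of_equiv topEquiv
  obtain ⟨z, hz, hz1⟩ := (bot_or_exists_ne_one _).resolve_left (H566.PairW.normal_inf_center h1 hN h.ne)
  have h2 : (zpowers z).Normal := ⟨fun a ha g => by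
    rwa [mem_center_iff.1 (zpowers_le.2 hz.2 ha) g, mul_inv_cancel_right]⟩
  have h3 : Nat.card N = 3 := by
    rw [← (h.min _ h2 (zpowers_le.2 hz.1)).resolve_left (zpowers_ne_bot.2 hz1), Nat.card_zpowers]
    exact orderOf_eq_prime (h.pow_three hab hz.1) hz1
  have h4 := (nab_dvd P).trans (card_subgroup_dvd_card _)
  rw [← N.card_mul_index, h3, hi] at h4
  have h5 := Nat.le_of_dvd (by decide) h4
  have h6 := h.big
  omega

/-- three factors: the Sylow subgroup of a factor is not of order three -/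
theorem nine_dvd (h : Min M G P N) (hi : N.index = 3) (hH : N ⊔ (P : Subgroup G) = ⊤) [Finite S] (C : Co N S 3)
    (hT : ∀ g o, C.π g o = o → g ∈ N) : 9 ∣ Nat.card S := by
  have f3 : Fact (Nat.Prime 3) := ⟨Nat.prime_three⟩
  by_contra h9
  have h3 := h.three_factor C
  obtain ⟨x, hx, hxN⟩ : ∃ x ∈ (P : Subgroup G), x ∉ N := SetLike.not_le_iff_exists.1 fun h1 => by
    rw [sup_eq_left.2 h1] at hH
    rw [hH, index_top] at hi
    exact absurd hi (by decide)
  have hx2 : x * x ∉ N := fun h1 => hxN (by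
    have h2 := N.pow_index_mem x
    rw [hi, pow_succ', pow_two] at h2
    exact (mul_mem_cancel_right h1).1 h2)
  have h1 : ∀ i, ∃ s : S, s ≠ 1 ∧ ((C.e.symm (Pi.mulSingle i s) : ↥N) : G) ∈ (P : Subgroup G) := fun i => by
    obtain ⟨Q, hQ, -⟩ := C.cent h3 P i
    obtain ⟨s, hs, hs1⟩ := (bot_or_exists_ne_one (Q : Subgroup S)).resolve_left (Q.ne_bot_of_dvd_card h3)
    exact ⟨s, hs1, hQ s hs⟩
  choose s hs1 hs using h1
  let c : Fin 3 → ↥N := fun i => MulAut.conjNormal x (C.e.symm (Pi.mulSingle i (s i))) * (C.e.symm (Pi.mulSingle i (s i)))⁻¹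
  have h1 : ∀ i j, C.π x i ≠ j → C.e (c i) j = ((Pi.mulSingle i (s i) : Fin 3 → S) j)⁻¹ := fun i j hij => by
    obtain ⟨k, rfl⟩ := (C.π x).surjective j
    rw [map_mul, map_inv, Pi.mul_apply, C.conj, MulEquiv.apply_symm_apply,
      Pi.mulSingle_eq_of_ne fun e => hij (congrArg _ e.symm), map_one, one_mul, Pi.inv_apply]
  have h2 : ∀ i, C.e (c i) i ≠ 1 := fun i => by
    rw [h1 i i fun e => hxN (hT _ _ e), Pi.mulSingle_eq_same]
    exact inv_ne_one.2 (hs1 i)
  have h4 : ∀ i j, i ≠ j → c i = c j → C.π x j = i := fun i j hij e => by_contra fun h5 => h2 i (by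
    rw [e, h1 j i h5, Pi.mulSingle_eq_of_ne hij, inv_one])
  let f : Option (Fin 3) → commutator ↥(P : Subgroup G) := fun i => i.elim 1 fun i =>
    ⟨⁅(⟨x, hx⟩ : ↥(P : Subgroup G)), ⟨_, hs i⟩⁆, commutator_mem_commutator (mem_top _) (mem_top _)⟩
  have h5 : ∀ i, ((f (some i) : ↥(P : Subgroup G)) : G) = c i := fun i => rfl
  have h6 : ∀ i, f (some i) ≠ f none := fun i e => h2 i (by
    rw [show c i = 1 from Subtype.ext ((h5 i).symm.trans (congrArg (fun y : commutator ↥(P : Subgroup G) => (y.1 : G)) e)), map_one,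
      Pi.one_apply])
  have h7 : Function.Injective f := by
    rintro (_ | i) (_ | j) e
    · rfl
    · exact absurd e.symm (h6 j)
    · exact absurd e (h6 i)
    · by_contra h8
      have h10 : i ≠ j := fun e => h8 (congrArg _ e)
      have h11 : c i = c j := Subtype.ext (by rw [← h5, ← h5, e])
      exact hx2 (hT _ i (by rw [map_mul, Equiv.Perm.mul_apply, h4 j i h10.symm h11.symm, h4 i j h10 h11]))
  have h8 := Nat.card_le_card_of_injective f h7
  rw [Nat.card_eq_fintype_card, Fintype.card_option, Fintype.card_fin] at h8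
  have h10 : Nat.card (commutator ↥(P : Subgroup G)) * nab P = Nat.card ↥(P : Subgroup G) := card_mul_index _
  obtain ⟨k, hk⟩ := P.2.exists_card_eq
  have h11 := card_subgroup_dvd_card (P : Subgroup G)
  change Nat.card ↥(P : Subgroup G) = _ at hk
  obtain ⟨t, ht⟩ := h3
  rw [hk, ← N.card_mul_index, C.card_eq, hi, ht, show (3 * t) ^ 3 * 3 = 3 ^ 4 * t ^ 3 by ring] at h11
  have h12 := Nat.le_of_dvd (by decide) (Nat.Coprime.dvd_of_dvd_mul_right (Nat.Coprime.pow k 3
    ((Nat.Prime.coprime_iff_not_dvd Nat.prime_three).2 fun h13 => h9 (ht ▸ Nat.mul_dvd_mul_left 3 h13))) h11)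
  have h13 := Nat.mul_le_mul h8 h.big
  omega

omit [Finite G] in
theorem k0_le_th [Finite S] [Nontrivial S] (hM : IsPModular 3 M) (C : Co N S m) (o : Fin m)
    (hT : ∀ g, C.π g o = o → g ∈ N) (H : Subgroup G) : k0 M S ≤ (Th M N H).ncard := by
  have : Finite ↥N := Finite.of_equiv _ C.e.symm.toEquiv
  have : Finite (IrrCharacter ↥N) := finite_irr
  have h1 := fun α : IrrCharacter S => C.exists_inv H o (α := α) (by
    rintro _ ⟨g, -, h1, rfl⟩ s
    rw [C.a_mem ⟨g, hT g h1⟩]
    exact isIrr_isClassFunction α.2 _ _)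
  choose f h1 h2 h3 using h1
  refine Nat.card_le_card_of_injective (β := Th M N H) (fun α => ⟨C.pc (f α.1), (C.mem_pc_iff hM).2 fun i => ?_, h2 _⟩)
    fun a b e => Subtype.ext ?_
  · rcases h3 α.1 i with h4 | ⟨g, -, -, h4⟩
    · exact h4 ▸ mem_triv hM
    · exact h4 ▸ mem_tw hM _ α.2
  · rw [← h1 a.1, ← h1 b.1, C.pc_injective (congrArg Subtype.val e)]

/-- **case B** -/
theorem caseB : CaseB := by
  intro hA hS M G _ _ P N hN h h3 h9
  have hM := h.mod
  have hi := relIndex_three P h3 h9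
  by_cases hH : N ⊔ (P : Subgroup G) = ⊤
  · rw [hH, relIndex_top_right] at hi
    have hab := not_abelian h hi hH
    obtain ⟨S, _, _, m, hm, hsimple, -, ⟨C⟩⟩ := exists_co N h.min hab
    choose T h1 h2 h4 using exists_stab C
    have h5 := index_dvd_of_le (h2 ⟨0, hm⟩)
    rw [h4, hi] at h5
    rcases (Nat.dvd_prime Nat.prime_three).1 h5 with rfl | rfl
    · exact of_one hA h hab C (.inr hi)
    · have hT : ∀ g o, C.π g o = o → g ∈ N := fun g o e => by
        have h6 := relIndex_mul_index (h2 o)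
        rw [h4, hi] at h6
        exact relIndex_eq_one.1 (by omega) ((h1 o g).2 e)
      exact of_four hS h h3 h9 (le_trans (by decide) ((six_le_k0 hM (nine_dvd h hi hH C hT)).trans
        (k0_le_th hM C 0 (fun g => hT g 0) _)))
  · have : Finite (IrrCharacter ↥N) := finite_irr
    have h1 := h.ih _ (lt_of_not_ge fun h1 => hH (eq_top_of_le_card _ h1)) (P.subtype le_sup_right)
      (by rw [nab_subtype]; exact h.big)
    have h2 := res_three (N := N.subgroupOf (N ⊔ (P : Subgroup G))) hM hi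
    let e := (subgroupOfEquivOfLe (le_sup_left : N ≤ N ⊔ (P : Subgroup G))).symm
    have h4 : Nat.card {θ : IrrCharacter ↥(N.subgroupOf (N ⊔ (P : Subgroup G))) //
        Mem M θ ∧ InvU (N.subgroupOf (N ⊔ (P : Subgroup G))) ⊤ θ} ≤ (Th M N (P : Subgroup G)).ncard :=
      Nat.card_le_card_of_injective (β := Th M N (P : Subgroup G))
        (fun θ => ⟨_, mem_comp hM e.toMonoidHom e.surjective θ.2.1, fun g hg n =>
          θ.2.2 ⟨g, mem_sup_right hg⟩ (mem_top _) (e n)⟩)
        fun a b h5 => Subtype.ext (Subtype.ext (e.surjective.injective_comp_right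
          (congrArg (fun x => (x.1 : ↥N → ℂ)) h5)))
    exact of_four hS h h3 h9 (by omega)

end Cfsg.Agent.KZ.RedB
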