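import Cfsg.Agent.KZ.Red.Iface
import Cfsg.Agent.S0916
import Cfsg.Agent.S0920
import Cfsg.Agent.S0936
import Cfsg.Agent.S0953
import Cfsg.Agent.S4825
import Cfsg.Agent.Blocks.BrauerMap
import Cfsg.Agent.Blocks.PrimeNormal
import Cfsg.Agent.Blocks.Over

/-!
# KZ, case B: the tool E1 (helper8)

`R` is a Sylow 3-subgroup of order three of `A`, `R ≤ L ≤ C(R)`, `L` normal in `N(R)`.  The number of irreducible
characters of degree prime to three which are congruent to their degree on `L` is at least `6` if `|N(R) : L| ≥ 3` and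
at least `9` if `|N(R) : L| ≥ 5` (induced blocks).
-/

set_option autoImplicit false

namespace Cfsg.Agent.KZ.RedB

open Cfsg Subgroup Cfsg.Agent.Blocks.Local Cfsg.Agent.Blocks.Basic Cfsg.Agent.Blocks.FullDefect
open Cfsg.Agent.KZ.Red Cfsg.Agent.KZ.Tool Cfsg.Agent.Characters
open scoped ComplexConjugate

universe u

variable {M : Ideal AlgInt} {A : Type u} [Group A] [Finite A]

/-- the characters of degree prime to three which are congruent to their degree on `X` -/
def Cg (M : Ideal AlgInt) (X : Subgroup A) (χ : IrrCharacter A) : Prop :=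
  ¬ 3 ∣ charDegree (χ : A → ℂ) ∧ ∀ x ∈ X, MemLocalIdeal M ((χ : A → ℂ) x - (χ : A → ℂ) 1)

theorem div_congr (hM : IsPModular 3 M) {χ ψ : A → ℂ} {x : A} (hx : ¬ 3 ∣ (centralizer ({x} : Set A)).index)
    (h : MemLocalIdeal M (centralChar χ x - centralChar ψ x)) : MemLocalIdeal M (χ x / χ 1 - ψ x / ψ 1) := by
  have := isPrime_of_isPModular hM
  have h3 : ((centralizer ({x} : Set A)).index : ℂ) ≠ 0 := Nat.cast_ne_zero.2 index_ne_zero_of_finite
  have h4 : χ x / χ 1 - ψ x / ψ 1 =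
      ((centralizer ({x} : Set A)).index : ℂ)⁻¹ * (centralChar χ x - centralChar ψ x) := by
    rw [centralChar_def, centralChar_def, mul_div_assoc, mul_div_assoc, ← mul_sub, inv_mul_cancel_left₀ h3]
  rw [h4]
  exact memLocalIdeal_mul_left (memLocalRing_inv_natCast hM hx) h

theorem exists_block (hM : IsPModular 3 M) (R : Sylow 3 A) (ξ : IrrCharacter ↥(normalizer ((R : Subgroup A) : Set A)))
    (hξ : ¬ 3 ∣ charDegree ξ.1) : IsDefectGroup 3 M (blockOf M ξ.1)
      ((R : Subgroup A).subgroupOf (normalizer ((R : Subgroup A) : Set A))) ∧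
    ∃ B, IsPBlock M B ∧ IsDefectGroup 3 M B R ∧
      IsInducedBlock M (normalizer ((R : Subgroup A) : Set A)) (blockOf M ξ.1) B := by
  have := isPrime_of_isPModular hM
  have f3 : Fact (Nat.Prime 3) := ⟨Nat.prime_three⟩
  have h1 := S0953.isDefectGroup_of_degree hM (R.subtype le_normalizer) (isPBlock_blockOf ξ) (mem_blockOf_self ξ) hξ
  exact ⟨h1, (S0920.result 3 M hM (R : Subgroup A) R.isPGroup').1 _ (isPBlock_blockOf ξ) h1⟩

theorem three_le_block (hM : IsPModular 3 M) (R : Sylow 3 A) (hR : (R : Subgroup A) ≠ ⊥) {B : Set (IrrCharacter A)}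
    (hB : IsPBlock M B) (hD : IsDefectGroup 3 M B R) :
    3 ≤ Nat.card {χ : IrrCharacter A // χ ∈ B ∧ ¬ 3 ∣ charDegree (χ : A → ℂ)} := by
  have f3 : Fact (Nat.Prime 3) := ⟨Nat.prime_three⟩
  have := Fintype.ofFinite A
  have := Fintype.ofFinite (⊥ : Subgroup A)
  have : Finite (IrrCharacter A) := Core.finite_irr
  have h1 := (S4825.result 3 R M hM B hB hD ⊥ (fun h => hR (le_bot_iff.1 h)) (triv _)).2 le_rfl
  have h2 : ∀ χ : IrrCharacter A,
      classInner (fun n : (⊥ : Subgroup A) => (χ : A → ℂ) n) (triv (⊥ : Subgroup A)).1 ≠ 0 := by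
    intro χ
    rw [classInner_def, Fintype.sum_subsingleton _ 1, card_bot, show (triv (⊥ : Subgroup A)).1 1 = 1 from rfl, map_one,
      mul_one, Nat.cast_one, inv_one, one_mul]
    exact irr_one_ne_zero χ.2
  rw [Nat.card_congr (Equiv.subtypeEquivRight (q := fun χ : IrrCharacter A => χ ∈ B ∧ ¬ 3 ∣ charDegree (χ : A → ℂ))
    fun χ => ⟨fun h => ⟨h.1, h.2.1⟩, fun h => ⟨h.1, h.2, h2 χ⟩⟩)] at h1
  obtain ⟨χ, hχ⟩ := S0953.exists_degree_of_isDefectGroup hM R hB hD
  exact Nat.le_of_dvd (Nat.card_pos_iff.2 ⟨⟨⟨χ, hχ⟩⟩, inferInstance⟩) h1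

theorem congr_block (hM : IsPModular 3 M) (R : Sylow 3 A) {ξ : IrrCharacter ↥(normalizer ((R : Subgroup A) : Set A))}
    {B : Set (IrrCharacter A)}
    (hB : IsInducedBlock M (normalizer ((R : Subgroup A) : Set A)) (blockOf M ξ.1) B) {χ : IrrCharacter A}
    (hχ : χ ∈ B) {x : ↥(normalizer ((R : Subgroup A) : Set A))} (hx : (x : A) ∈ centralizer ((R : Subgroup A) : Set A))
    (h1 : ξ.1 x = ξ.1 1) : MemLocalIdeal M ((χ : A → ℂ) x - (χ : A → ℂ) 1) := by
  have := isPrime_of_isPModular hM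
  have f3 : Fact (Nat.Prime 3) := ⟨Nat.prime_three⟩
  obtain ⟨-, B0, -, -, h0⟩ := exists_block hM R (triv _) (mem_triv hM).2
  have h2 := (S0936.result 3 M hM _ _ ⟨B0, h0⟩).2 rfl
  have h3 := h2.2.2 (triv _) (mem_triv hM).1 (triv A) (mem_triv hM).1 x
  have h4 := hB.2.2 ξ (mem_blockOf_self ξ) χ hχ x
  have h5 := Blocks.BrauerMap.inducedCentralChar_sub_brauerCentralChar hM R.isPGroup' le_normalizer le_rfl ξ.2 x
  have h6 := Blocks.BrauerMap.inducedCentralChar_sub_brauerCentralChar hM R.isPGroup' le_normalizer le_rfl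
    (triv ↥(normalizer ((R : Subgroup A) : Set A))).2 x
  have h7 : brauerCentralChar R _ ξ.1 x =
      brauerCentralChar R _ (triv ↥(normalizer ((R : Subgroup A) : Set A))).1 x := by
    rw [brauerCentralChar_def, brauerCentralChar_def]
    refine finsum_mem_congr rfl fun h hh => ?_
    obtain ⟨S, hS⟩ := isSylowCentralizer_of_mem R hx
    obtain ⟨n, hn, e⟩ := ((S0916.result 3 (R : Subgroup A) R.isPGroup').1 x ⟨S, hS.symm⟩).2 _ _ (IsConj.refl _) hh.1
      hx hh.2
    have e' : h = ⟨n, hn⟩ * x * (⟨n, hn⟩ : ↥(normalizer ((R : Subgroup A) : Set A)))⁻¹ := Subtype.ext e.symm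
    rw [e', irr_conj ξ.2, h1, div_self (irr_one_ne_zero ξ.2)]
    exact (div_one 1).symm
  rw [← h7] at h6
  have h8 := div_congr hM (not_dvd_index R hx) (memLocalIdeal_sub_trans (memLocalIdeal_sub_trans
    (memLocalIdeal_sub_trans (memLocalIdeal_sub_comm h4) h5) (memLocalIdeal_sub_comm h6)) h3)
  have h9 := memLocalIdeal_mul_left (memLocalRing_irr χ 1) h8
  rwa [mul_sub, mul_div_cancel₀ _ (irr_one_ne_zero χ.2), show (triv A : A → ℂ) x / (triv A : A → ℂ) 1 = 1 from
    div_one 1, mul_one] at h9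

/-- the count over a family of blocks -/
theorem card_cg (hM : IsPModular 3 M) (R : Sylow 3 A) (hR : (R : Subgroup A) ≠ ⊥) {ι : Type} [Fintype ι]
    (ξ : ι → IrrCharacter ↥(normalizer ((R : Subgroup A) : Set A))) (hξ : ∀ i, ¬ 3 ∣ charDegree (ξ i).1)
    (hne : ∀ i j, SameBlock M (ξ i).1 (ξ j).1 → i = j) {L : Subgroup A}
    (hL : L ≤ centralizer ((R : Subgroup A) : Set A))
    (h1 : ∀ i (x : ↥(normalizer ((R : Subgroup A) : Set A))), (x : A) ∈ L → (ξ i).1 x = (ξ i).1 1) :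
    3 * Fintype.card ι ≤ Nat.card {χ : IrrCharacter A // Cg M L χ} := by
  have := isPrime_of_isPModular hM
  have f3 : Fact (Nat.Prime 3) := ⟨Nat.prime_three⟩
  have : Finite (IrrCharacter A) := Core.finite_irr
  choose hd B h2 h3 h4 using fun i => exists_block hM R (ξ i) (hξ i)
  have h5 : ∀ i j, B i = B j → i = j := by
    intro i j e
    obtain ⟨b, -, hb⟩ := (S0920.result 3 M hM (R : Subgroup A) R.isPGroup').2 _ (h2 i) (h3 i)
    exact hne i j (blockOf_eq_iff.1 ((hb _ ⟨isPBlock_blockOf _, hd i, h4 i⟩).trans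
      (hb _ ⟨isPBlock_blockOf _, hd j, e ▸ h4 j⟩).symm))
  let f : (Σ i, {χ : IrrCharacter A // χ ∈ B i ∧ ¬ 3 ∣ charDegree (χ : A → ℂ)}) → {χ : IrrCharacter A // Cg M L χ} :=
    fun c => ⟨c.2.1, c.2.2.2, fun x hx => congr_block hM R (h4 c.1) c.2.2.1
      (x := ⟨x, centralizer_le_normalizer _ (hL hx)⟩) (hL hx) (h1 _ _ hx)⟩
  have hf : Function.Injective f := by
    rintro ⟨i, χ, hχ⟩ ⟨j, ψ, hψ⟩ e
    obtain rfl : χ = ψ := congrArg Subtype.val e
    obtain rfl := h5 i j (isPBlock_eq_of_mem (h2 i) (h2 j) hχ.1 hψ.1)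
    rfl
  refine le_trans ?_ (Nat.card_le_card_of_injective f hf)
  rw [Nat.card_sigma, mul_comm, ← smul_eq_mul, ← Finset.card_univ]
  exact Finset.card_nsmul_le_sum _ _ _ fun i _ => three_le_block hM R hR (h2 i) (h3 i)

theorem over_of_congr (hM : IsPModular 3 M) (K : Subgroup A) [K.Normal] (hK : ¬ 3 ∣ Nat.card K) {μ ν : IrrCharacter A}
    (hμ : ¬ 3 ∣ charDegree (μ : A → ℂ))
    (h : ∀ k ∈ K, MemLocalIdeal M ((μ : A → ℂ) k / (μ : A → ℂ) 1 - (ν : A → ℂ) k / (ν : A → ℂ) 1))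
    {θ : IrrCharacter K} (h1 : Over K μ θ) : Over K ν θ := by
  have := isPrime_of_isPModular hM
  have := Fintype.ofFinite A
  let _ := Fintype.ofFinite K
  intro h2
  obtain ⟨S, -, -, hS⟩ := Blocks.PrimeNormal.restrict_eq K μ.2 θ.2 h1
  obtain ⟨e, he⟩ := Core.classInner_isNat (Clifford.isCharacter_restrict K (Core.isIrr_isCharacter μ.2))
    (Core.isIrr_isCharacter θ.2)
  have h3 : charDegree (μ : A → ℂ) = e * ∑ η ∈ S, charDegree (η : K → ℂ) := by
    have h4 := congrFun hS 1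
    rw [he, Pi.smul_apply, Finset.sum_apply, Finset.sum_congr rfl fun η _ => irr_one_eq_charDegree η.2] at h4
    exact charDegree_of_eq (by rw [Nat.cast_mul, Nat.cast_sum]; exact h4)
  have h4 := memLocalIdeal_mul_left (memLocalRing_irr μ 1) (memLocalIdeal_sum (s := Finset.univ) fun (k : K) _ =>
    memLocalIdeal_mul_right (h k k.2) (show MemLocalRing M (conj ((θ : K → ℂ) k)) from by
      rw [← Core.isCharacter_apply_inv (Core.isIrr_isCharacter θ.2)]
      exact memLocalRing_irr θ _))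
  have h5 : ∀ χ : A → ℂ, ∑ k : K, χ k * conj ((θ : K → ℂ) k) = Nat.card K * classInner (fun k : K => χ k) θ := by
    intro χ
    rw [classInner_def, mul_inv_cancel_left₀ Core.card_ne_zero_complex]
  have h6 : (μ : A → ℂ) 1 * ∑ k : K, ((μ : A → ℂ) k / (μ : A → ℂ) 1 - (ν : A → ℂ) k / (ν : A → ℂ) 1) *
      conj ((θ : K → ℂ) k) = ((Nat.card K * e : ℕ) : ℂ) := by
    simp only [sub_mul, div_mul_eq_mul_div, Finset.sum_sub_distrib, ← Finset.sum_div]
    rw [h5, h5, he, h2, mul_zero, zero_div, sub_zero, mul_div_cancel₀ _ (irr_one_ne_zero μ.2), Nat.cast_mul]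
  rw [h6, memLocalIdeal_natCast_iff hM, Nat.prime_three.dvd_mul] at h4
  exact h4.elim hK fun h7 => hμ (h3 ▸ h7.mul_right _)

theorem gconj_of_over (K : Subgroup A) [K.Normal] {μ : IrrCharacter A} {θ η : IrrCharacter K} (h1 : Over K μ θ)
    (h2 : Over K μ η) : GConj K θ η := by
  have := Fintype.ofFinite A
  let _ := Fintype.ofFinite K
  obtain ⟨g, hg⟩ := Clifford.exists_conj_of_constituents K μ.2 θ.2 η.2 h1 h2
  exact ⟨g, fun n => (congrFun hg n).symm⟩

/-- the count over a family of characters of `C(R) / L` -/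
theorem card_cg_of_fam (hM : IsPModular 3 M) (R : Sylow 3 A) (hR : (R : Subgroup A) ≠ ⊥) {L : Subgroup A}
    (hL : L ≤ centralizer ((R : Subgroup A) : Set A)) {E : Type u} [Group E] [Finite E] (hE : ¬ 3 ∣ Nat.card E)
    (π : ↥(normalizer ((R : Subgroup A) : Set A)) →* E) (hπ : Function.Surjective π)
    (hk : ∀ x : ↥(normalizer ((R : Subgroup A) : Set A)), (x : A) ∈ L → π x = 1) (K : Subgroup E) [K.Normal]
    (hK : ∀ k ∈ K, ∃ x, π x = k ∧ (x : A) ∈ centralizer ((R : Subgroup A) : Set A)) {ι : Type} [Fintype ι]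
    (θ : ι → IrrCharacter K) (hθ : ∀ i j, GConj K (θ i) (θ j) → i = j) :
    3 * Fintype.card ι ≤ Nat.card {χ : IrrCharacter A // Cg M L χ} := by
  have f3 : Fact (Nat.Prime 3) := ⟨Nat.prime_three⟩
  let _ := Fintype.ofFinite K
  choose μ hμ using fun i => Blocks.Over.exists_over K (θ i)
  have hd : ∀ i, ¬ 3 ∣ charDegree (μ i : E → ℂ) := fun i h => hE (h.trans (S0953.charDegree_dvd_card _))
  refine card_cg hM R hR (fun i => ⟨(μ i : E → ℂ) ∘ π, Core.isIrr_comp π hπ (μ i).2⟩) (fun i => ?_) (fun i j h => ?_) hL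
    fun i x hx => ?_
  · show ¬ 3 ∣ ⌊((μ i : E → ℂ) (π 1)).re⌋₊
    rw [map_one]
    exact hd i
  · refine hθ i j (gconj_of_over K (over_of_congr hM K (fun h3 => hE (h3.trans (card_subgroup_dvd_card K))) (hd i)
      (fun k hk => ?_) (hμ i)) (hμ j))
    obtain ⟨x, rfl, hx⟩ := hK k hk
    have h1 := div_congr hM (not_dvd_index (R.subtype le_normalizer) (g := x)
      (mem_centralizer_iff.2 fun y hy => Subtype.ext (mem_centralizer_iff.1 hx y hy))) (h x)
    simpa only [Function.comp_apply, map_one] using h1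
  · show (μ i : E → ℂ) (π x) = (μ i : E → ℂ) (π 1)
    rw [hk x hx, map_one]

end Cfsg.Agent.KZ.RedB
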