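import Cfsg.Agent.KZ.RedB.E1
import Cfsg.Agent.KZ.RedB.Gen
import Cfsg.Agent.SmallSimple.BurnsideNC

/-!
# KZ, case B: the tool E1, second part (helper8)
-/

set_option autoImplicit false

namespace Cfsg.Agent.KZ.RedB

open Cfsg Subgroup Cfsg.Agent.KZ.Red Cfsg.Agent.KZ.Tool Cfsg.Agent.Characters.Core

variable {M : Ideal AlgInt}

theorem ncard_ne_triv (K : Type) [Group K] [Finite K] :
    {θ : IrrCharacter K | θ ≠ triv K}.ncard + 1 = Nat.card (ConjClasses K) := by
  have : Finite (IrrCharacter K) := finite_irr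
  rw [← card_irr, ← Set.ncard_add_ncard_compl {triv K}, Set.ncard_singleton, add_comm]
  rfl

theorem e1 (hS : SmallK) (hM : IsPModular 3 M) {A : Type} [Group A] [Finite A] (R : Sylow 3 A)
    (hR : Nat.card (R : Subgroup A) = 3) {L : Subgroup A} (hRL : (R : Subgroup A) ≤ L)
    (hL : L ≤ centralizer ((R : Subgroup A) : Set A))
    (hD : normalizer ((R : Subgroup A) : Set A) ≤ normalizer (L : Set A)) :
    (3 ≤ L.relIndex (normalizer ((R : Subgroup A) : Set A)) → 6 ≤ Nat.card {χ : IrrCharacter A // Cg M L χ}) ∧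
    (5 ≤ L.relIndex (normalizer ((R : Subgroup A) : Set A)) → 9 ≤ Nat.card {χ : IrrCharacter A // Cg M L χ}) := by
  have f3 : Fact (Nat.Prime 3) := ⟨Nat.prime_three⟩
  have hn : (L.subgroupOf (normalizer ((R : Subgroup A) : Set A))).Normal := normal_subgroupOf_of_le_normalizer hD
  let π := QuotientGroup.mk' (L.subgroupOf (normalizer ((R : Subgroup A) : Set A)))
  have hπ : Function.Surjective π := QuotientGroup.mk'_surjective _
  let K := ((centralizer ((R : Subgroup A) : Set A)).subgroupOf (normalizer ((R : Subgroup A) : Set A))).map π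
  have hK : K.Normal := Normal.map inferInstance π hπ
  have hE : ¬ 3 ∣ L.relIndex (normalizer ((R : Subgroup A) : Set A)) := fun h =>
    R.not_dvd_index ((h.trans (relIndex_dvd_of_le_left _ hRL)).trans (relIndex_dvd_index_of_le le_normalizer))
  have hc : IsCyclic (R : Subgroup A) := isCyclic_of_prime_card hR
  have hi : K.index ≤ 2 := by
    have h1 := (index_map_dvd _ hπ).trans (SmallSimple.BurnsideNC.relIndex_dvd_card_mulAut (R : Subgroup A))
    rw [IsCyclic.card_mulAut, hR] at h1
    exact Nat.le_of_dvd (by decide) h1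
  have h1 : Nat.card K * K.index = L.relIndex (normalizer ((R : Subgroup A) : Set A)) := K.card_mul_index
  have h2 : L.relIndex (normalizer ((R : Subgroup A) : Set A)) ≤ Nat.card K * 2 := h1 ▸ Nat.mul_le_mul_left _ hi
  obtain ⟨k1, k2, k3, -⟩ := hS K fun h => hE (h1 ▸ h.mul_right _)
  have key : ∀ k : ℕ, k * 2 + 1 < Nat.card (ConjClasses K) → 3 * (k + 2) ≤ Nat.card {χ : IrrCharacter A // Cg M L χ} := by
    intro k hk
    rw [← ncard_ne_triv, Nat.add_lt_add_iff_right] at hk
    obtain ⟨f, h3, h4⟩ := exists_nonconj_top (N := K) _ (fun θ _ => invU_self θ) k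
      ((Nat.mul_le_mul_left k hi).trans_lt hk)
    have h5 := card_cg_of_fam hM R (fun h => by rw [h, card_bot] at hR; exact absurd hR (by decide)) hL hE π hπ
      (fun x hx => (QuotientGroup.eq_one_iff _).2 hx) K (fun _ ⟨x, hx, e⟩ => ⟨x, e, hx⟩) _ (fam_option f h4 h3)
    rwa [Fintype.card_option, Fintype.card_fin] at h5
  have h3 := ncard_ne_triv K
  exact ⟨fun h => key 0 (by omega), fun h => key 1 (by omega)⟩

end Cfsg.Agent.KZ.RedB
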